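import Cfsg.Prelude.Def_Involutions
import Cfsg.Prelude.Def_CaseTheorems
import Cfsg.Agent.Lib.Involutions.Basic
import Cfsg.Agent.Lib.Involutions.BrauerSuzuki
import Cfsg.Agent.Lib.Involutions.StronglyEmbedded
import Cfsg.Agent.Lib.TwoGroups.RankOne
import Cfsg.Agent.Lib.Cores.PCore
import Mathlib.GroupTheory.SpecificGroups.Quaternion

/-!
Groups with a strongly embedded subgroup and without four-groups.
-/

set_option autoImplicit false

namespace CfsgLib.SEBender

open Cfsg CfsgLib.Involutions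

/-- Two commuting involutions are equal: there is no four-group. -/
def NoFourGroup (G : Type*) [Group G] : Prop :=
  ∀ a b : G, orderOf a = 2 → orderOf b = 2 → Commute a b → a = b

variable {G : Type*} [Group G] [Finite G]

/-- The product of two involutions has odd order when there is no four-group and they differ;
in every case the second is conjugate to the first inside the dihedral group they generate. -/
theorem odd_orderOf_mul_of_noFour (hV : NoFourGroup G) {a b : G} (ha : orderOf a = 2)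
    (hb : orderOf b = 2) : Odd (orderOf (a * b)) := by
  by_contra h
  rw [Nat.not_odd_iff_even] at h
  have hw := orderOf_half h (orderOf_pos _).ne'
  have h1 := hV _ a hw ha (commute_half_left ha hb h)
  have h2 := hV _ b hw hb (commute_half_right ha hb h)
  rw [h1] at h2
  subst h2
  rw [mul_self_eq_one ha, orderOf_one] at h
  exact absurd h (by decide)

theorem oddComm_of_noFour (hV : NoFourGroup G) {z : G} (hz : orderOf z = 2) : OddComm z := fun g => by
  have h := odd_orderOf_mul_of_noFour hV hz (show orderOf (g * z * g⁻¹) = 2 by rwa [orderOf_conj])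
  rwa [inv_eq_self hz, show z * g * z * g⁻¹ = z * (g * z * g⁻¹) by group]

/-- Every Sylow `2`-subgroup is cyclic or generalized quaternion. -/
theorem sylow_shape_of_noFour (hV : NoFourGroup G) (S : Sylow 2 G) :
    IsCyclic S ∨ ∃ m : ℕ, 1 ≤ m ∧ Nonempty ((S : Subgroup G) ≃* QuaternionGroup (2 ^ m)) := by
  haveI : Fact (Nat.Prime 2) := ⟨Nat.prime_two⟩
  have hu : CfsgLib.TwoGroups.UniqueOrderP 2 (S : Subgroup G) := by
    refine CfsgLib.TwoGroups.uniqueOrderP_iff_unique_involution.2 fun a b ha hb => ?_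
    haveI : Nontrivial (S : Subgroup G) := nontrivial_of_ne a 1 (ne_one ha)
    haveI := S.2.center_nontrivial
    have hd : 2 ∣ Nat.card (Subgroup.center (S : Subgroup G)) := by
      obtain ⟨k, hk⟩ := IsPGroup.iff_card.1 (S.2.to_subgroup (Subgroup.center (S : Subgroup G)))
      rcases k with _ | k
      · have := Finite.one_lt_card (α := Subgroup.center (S : Subgroup G)); omega
      · exact hk ▸ dvd_pow_self 2 (Nat.succ_ne_zero k)
    obtain ⟨z, hz⟩ := exists_prime_orderOf_dvd_card' (G := Subgroup.center (S : Subgroup G)) 2 hd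
    have key : ∀ c : (S : Subgroup G), orderOf c = 2 → (c : G) = ((z : (S : Subgroup G)) : G) :=
      fun c hc => hV _ _ (by rwa [Subgroup.orderOf_coe]) (by rwa [Subgroup.orderOf_coe,
        Subgroup.orderOf_coe]) (congrArg Subtype.val (Subgroup.mem_center_iff.1 z.2 c))
    exact Subtype.ext ((key a ha).trans (key b hb).symm)
  rcases CfsgLib.TwoGroups.isCyclic_or_quaternion S.2 hu with h | ⟨-, h⟩
  · exact Or.inl h
  · exact Or.inr h

/-- `G = O(G) H`. -/
theorem oddCore_sup_eq_top (hV : NoFourGroup G) {H : Subgroup G} (hH : IsStronglyEmbedded H) :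
    oddCore G ⊔ H = ⊤ := by
  haveI : Fact (Nat.Prime 2) := ⟨Nat.prime_two⟩
  obtain ⟨⟨z, hzH⟩, hz⟩ := exists_prime_orderOf_dvd_card' (G := H) 2 (even_iff_two_dvd.1 hH.2.1)
  rw [Subgroup.orderOf_mk] at hz
  refine (Subgroup.eq_top_iff' _).2 fun g => ?_
  have hw : orderOf (g * z * g⁻¹) = 2 := by rwa [orderOf_conj]
  obtain ⟨m, hm⟩ := odd_orderOf_mul_of_noFour hV hz hw
  have hmem : z * (g * z * g⁻¹) ∈ oddCore G := by
    have := zstar_theorem hz (oddComm_of_noFour hV hz) g
    rwa [inv_eq_self hz, show z * g * z * g⁻¹ = z * (g * z * g⁻¹) by group] at this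
  set d := (z * (g * z * g⁻¹)) ^ (m : ℤ) with hd
  have hdo : d ∈ oddCore G := zpow_mem hmem _
  have hdz : d * z * d⁻¹ = g * z * g⁻¹ := by
    rw [hd, conj_left_by_zpow hz hw]
    conv_rhs => rw [right_eq_zpow_mul hz hw]
    congr 1
    rw [← orderOf_dvd_sub_iff_zpow_eq_zpow, hm]
    simp
  have hc : d⁻¹ * g ∈ Subgroup.centralizer ({z} : Set G) := by
    rw [mem_centralizer_singleton]
    calc d⁻¹ * g * z = d⁻¹ * (g * z * g⁻¹) * g := by group
      _ = d⁻¹ * (d * z * d⁻¹) * g := by rw [hdz]
      _ = z * (d⁻¹ * g) := by group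
  have := mul_mem (Subgroup.mem_sup_left (T := H) hdo)
    (Subgroup.mem_sup_right (S := oddCore G) (centralizer_le_of_stronglyEmbedded hH hzH hz hc))
  rwa [mul_inv_cancel_left] at this

/-- If `G = O(G) H` then `O(H) ≤ O(G)`. -/
theorem oddCore_le_of_sup_eq_top {H : Subgroup G} (htop : oddCore G ⊔ H = ⊤) :
    (oddCore ↥H).map H.subtype ≤ oddCore G := by
  set M := (oddCore ↥H).map H.subtype
  set O := oddCore G
  have hn : (M ⊔ O).Normal := by
    refine Subgroup.normalizer_eq_top_iff.1 (top_le_iff.1 (htop ▸ sup_le ?_ ?_))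
    · exact le_sup_right.trans Subgroup.le_normalizer
    · intro h hh
      have hMn : h ∈ Subgroup.normalizer (M : Set G) :=
        Subgroup.le_normalizer_map H.subtype
          ⟨⟨h, hh⟩, by rw [Subgroup.normalizer_eq_top]; trivial, rfl⟩
      have hOn : h ∈ Subgroup.normalizer (O : Set G) := by
        rw [Subgroup.normalizer_eq_top]; trivial
      rw [Subgroup.mem_normalizer_iff_map_conj_eq] at hMn hOn ⊢
      rw [Subgroup.map_sup, hMn, hOn]
  haveI := hn
  refine le_sup_left.trans (CfsgLib.Cores.le_pPrimeCore (p := 2) (N := M ⊔ O) (Nat.coprime_two_right.2 ?_))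
  have hM : Odd (Nat.card M) := by
    rw [Subgroup.card_map_of_injective H.subtype_injective]
    exact CfsgLib.Cores.odd_card_oddCore
  have hO : Odd (Nat.card O) := CfsgLib.Cores.odd_card_oddCore
  have h1 : Nat.card ↥(O.subgroupOf (M ⊔ O)) * (O.subgroupOf (M ⊔ O)).index =
      Nat.card ↥(M ⊔ O) := Subgroup.card_mul_index _
  rw [Nat.card_congr (Subgroup.subgroupOfEquivOfLe (le_sup_right : O ≤ M ⊔ O)).toEquiv] at h1
  rw [← h1]
  refine hO.mul ?_
  show Odd (O.relIndex (M ⊔ O))
  rw [Subgroup.relIndex_sup_right]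
  exact hM.of_dvd_nat (Subgroup.relIndex_dvd_card _ _)

/-- No involution centralizes an element that another involution inverts. -/
theorem odd_card_centralizer_of_inverted (hV : NoFourGroup G) {u j : G} (hu : orderOf u = 2)
    (hj : Odd (orderOf j)) (hj1 : j ≠ 1) (hinv : u * j * u⁻¹ = j⁻¹) :
    Odd (Nat.card (Subgroup.centralizer ({j} : Set G))) := by
  haveI : Fact (Nat.Prime 2) := ⟨Nat.prime_two⟩
  rw [← Nat.not_even_iff_odd]
  intro he
  obtain ⟨⟨z, hzj⟩, hz⟩ :=
    exists_prime_orderOf_dvd_card' (G := Subgroup.centralizer ({j} : Set G)) 2 he.two_dvd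
  rw [Subgroup.orderOf_mk] at hz
  obtain ⟨m, hm⟩ := odd_orderOf_mul_of_noFour hV hu hz
  -- both `u z` and its powers map `j` to itself or its inverse
  set K : Subgroup G := Subgroup.normalizer (Subgroup.zpowers j : Set G)
  have hzc : z * j * z⁻¹ = j := by
    rw [mem_centralizer_singleton.1 hzj, mul_inv_cancel_right]
  have hconj : ∀ d : ℕ, ((u * z) ^ d) * j * ((u * z) ^ d)⁻¹ = j ∨
      ((u * z) ^ d) * j * ((u * z) ^ d)⁻¹ = j⁻¹ := by
    intro d
    induction d with
    | zero => left; simp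
    | succ d ih =>
      have h1 : u * z * j * (u * z)⁻¹ = j⁻¹ := by
        rw [show u * z * j * (u * z)⁻¹ = u * (z * j * z⁻¹) * u⁻¹ by group, hzc, hinv]
      have e : (u * z) ^ (d + 1) * j * ((u * z) ^ (d + 1))⁻¹ =
          (u * z) ^ d * (u * z * j * (u * z)⁻¹) * ((u * z) ^ d)⁻¹ := by rw [pow_succ]; group
      rw [e, h1]
      rcases ih with h | h
      · right
        rw [← conj_inv, h]
      · left
        rw [← conj_inv, h, inv_inv]
  set d := (u * z) ^ m with hd
  have hdu : d * u * d⁻¹ = z := by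
    rw [hd, ← zpow_natCast, conj_left_by_zpow hu hz]
    conv_rhs => rw [right_eq_zpow_mul hu hz]
    congr 1
    rw [← orderOf_dvd_sub_iff_zpow_eq_zpow, hm]
    simp
  have hji : j⁻¹ ≠ j := fun h => hj1 (orderOf_eq_one_iff.1 (Nat.eq_one_of_dvd_coprimes
    (Nat.coprime_two_right.2 hj) dvd_rfl
    (orderOf_dvd_of_pow_eq_one (by rw [pow_two]; nth_rw 1 [← h]; exact inv_mul_cancel j))))
  have hjd : z * (d * j * d⁻¹) * z⁻¹ = (d * j * d⁻¹)⁻¹ := by
    rw [← hdu]
    calc d * u * d⁻¹ * (d * j * d⁻¹) * (d * u * d⁻¹)⁻¹ = d * (u * j * u⁻¹) * d⁻¹ := by group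
      _ = (d * j * d⁻¹)⁻¹ := by rw [hinv]; group
  rcases hconj m with h | h
  · rw [← hd] at h; rw [h, hzc] at hjd; exact hji hjd.symm
  · rw [← hd] at h
    rw [h, inv_inv, ← conj_inv, hzc] at hjd
    exact hji hjd

end CfsgLib.SEBender
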